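import Cfsg.Agent.Lib.CosetEnum.Cox

set_option autoImplicit false
set_option maxRecDepth 100000

namespace Cfsg.Agent.CosetEnum.Fi22.E6

def fxL0 : ℕ := 0x200034000340000180001800000a0000a000005c0005c00002c0002c0000110001100000a8000a800004c0004c0000240002410000e0000e00000780007840002c0002c000018000181000090000910000280002940000800008a00002000025000000000020000300003140006800068a000320003250001800018200006000060800054000546000240002430001000010180007000071000028000288000120001240000800008200003800039000014000148000080000840000300003200001000010c000000000060000c0000c20001a0001a10000c8000c84000500005020002e0002e10001600016080008800088400054000542000260002620001000010100007000070800034000344000160001630000800008180003800038c0001400014600008000083000030000310000080000880000000000600034000343000190001918000c0000c1400030000304000280002850000f0000f10000b0000b140004800048a000200002050000e0000e28000680006940002c0002ca0001400014500009000091000030000308000100001020000400004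1000010000108000000000040001c000140000200001c00000d0000b0000050000480000200001c2000240002010000f0000d1000098000910000580005060002e0002c40001a0001a20000c8000c90000600006080002e0002e3000140001420000a8000a8c0004400044400018000181000080000800000280002840001800018000006000060000020000200000080000800000000000000034000321000190001810000c0000b940005c00054a0002c000263000150001328000a00008900004c000448000240001e2000110000f200008000068c0003c0003080001c0001630000d0000a080006000050c0002c00024400014000102000090000728000400003140001c0001000000c000085000050000308000200001880000c000086000040000240000100000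
def fx : PTree := (.leaf fxL0)
def rule0 : Rule := ⟨0, [], [], true, 0, 0⟩
def rule1 : Rule := ⟨0, [0,4], [4], false, 4, 0⟩
def rule2 : Rule := ⟨0, [0,3], [3], false, 3, 0⟩
def rule3 : Rule := ⟨0, [0,2], [2], false, 2, 0⟩
def rule4 : Rule := ⟨1, [0,1,0], [1,0], false, 1, 0⟩
def rule5 : Rule := ⟨0, [0,5], [5], false, 5, 0⟩
def rule6 : Rule := ⟨1, [1,5], [5], false, 11, 0⟩
def rule7 : Rule := ⟨2, [1,2,1], [2,1], false, 8, 0⟩
def rule8 : Rule := ⟨3, [2,3,2], [3,2], false, 15, 0⟩
def rule9 : Rule := ⟨4, [3,4,3], [4,3], false, 22, 0⟩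
def rule10 : Rule := ⟨3, [3,5], [5], false, 23, 0⟩
def rule11 : Rule := ⟨4, [4,5], [5], false, 29, 0⟩
def rule12 : Rule := ⟨4, [4,2], [2], false, 16, 1⟩
def rule13 : Rule := ⟨4, [4,1], [1], false, 10, 1⟩
def rule14 : Rule := ⟨4, [4,0], [0], false, 4, 1⟩
def rule15 : Rule := ⟨3, [5,3,5], [], false, 23, 1⟩
def rule16 : Rule := ⟨4, [5,4,5], [], false, 29, 1⟩
def rule17 : Rule := ⟨2, [4,2,4], [], false, 16, 1⟩
def rule18 : Rule := ⟨1, [3,1,3], [], false, 9, 1⟩
def rule19 : Rule := ⟨1, [1,4], [4], false, 10, 0⟩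
def rule20 : Rule := ⟨0, [5,0,5], [], false, 5, 1⟩
def rule21 : Rule := ⟨1, [5,1,5], [], false, 11, 1⟩
def rule22 : Rule := ⟨1, [], [], true, 0, 0⟩
def rule23 : Rule := ⟨1, [1,3], [3], false, 9, 0⟩
def rule24 : Rule := ⟨2, [2,0], [0], false, 2, 1⟩
def rule25 : Rule := ⟨5, [2,5,2], [5,2], false, 17, 0⟩
def rule26 : Rule := ⟨5, [5,0], [0], false, 5, 1⟩
def rule27 : Rule := ⟨5, [5,3], [3], false, 23, 1⟩
def rule28 : Rule := ⟨5, [5,4], [4], false, 29, 1⟩
def rule29 : Rule := ⟨5, [5,1], [1], false, 11, 1⟩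
def rule30 : Rule := ⟨2, [5,2,5], [2,5], false, 17, 1⟩
def rule31 : Rule := ⟨3, [3,1], [1], false, 9, 1⟩
def rule32 : Rule := ⟨3, [3,0], [0], false, 3, 1⟩
def rule33 : Rule := ⟨2, [], [], true, 0, 0⟩
def rule34 : Rule := ⟨2, [2,4], [4], false, 16, 0⟩
def rule35 : Rule := ⟨2, [3,2,3], [2,3], false, 15, 1⟩
def rule36 : Rule := ⟨1, [2,1,2], [1,2], false, 8, 1⟩
def rule37 : Rule := ⟨3, [], [], true, 0, 0⟩
def rule38 : Rule := ⟨3, [4,3,4], [3,4], false, 22, 1⟩
def rule39 : Rule := ⟨5, [], [], true, 0, 0⟩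
def rule40 : Rule := ⟨0, [1,0,1], [0,1], false, 1, 1⟩
def rules : DTree Rule := (.node 20 (.node 10 (.node 5 (.node 2 (.node 1 (.leaf rule0) (.leaf rule1)) (.node 1 (.leaf rule2) (.node 1 (.leaf rule3) (.leaf rule4)))) (.node 2 (.node 1 (.leaf rule5) (.leaf rule6)) (.node 1 (.leaf rule7) (.node 1 (.leaf rule8) (.leaf rule9))))) (.node 5 (.node 2 (.node 1 (.leaf rule10) (.leaf rule11)) (.node 1 (.leaf rule12) (.node 1 (.leaf rule13) (.leaf rule14)))) (.node 2 (.node 1 (.leaf rule15) (.leaf rule16)) (.node 1 (.leaf rule17) (.node 1 (.leaf rule18) (.leaf rule19)))))) (.node 10 (.node 5 (.node 2 (.node 1 (.leaf rule20) (.leaf rule21)) (.node 1 (.leaf rule22) (.node 1 (.leaf rule23) (.leaf rule24)))) (.node 2 (.node 1 (.leaf rule25) (.leaf rule26)) (.node 1 (.leaf rule27) (.node 1 (.leaf rule28) (.leaf rule29))))) (.node 5 (.node 2 (.node 1 (.leaf rule30) (.leaf rule31)) (.node 1 (.leaf rule32) (.node 1 (.leaf rule33) (.leaf rule34)))) (.node 3 (.node 1 (.leaf rule35)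 (.node 1 (.leaf rule36) (.leaf rule37))) (.node 1 (.leaf rule38) (.node 1 (.leaf rule39) (.leaf rule40)))))))
def sys : Sys := ⟨6, 0x18a418820, fx, rules⟩
def sel : List ℕ := [1,2,3,4,5,7]
def rels : List (List ℕ) := [[0,0],
  [0,1,0,1,0,1],
  [0,2,0,2],
  [0,3,0,3],
  [0,4,0,4],
  [0,5,0,5],
  [1,0,1,0,1,0],
  [1,1],
  [1,2,1,2,1,2],
  [1,3,1,3],
  [1,4,1,4],
  [1,5,1,5],
  [2,0,2,0],
  [2,1,2,1,2,1],
  [2,2],
  [2,3,2,3,2,3],
  [2,4,2,4],
  [2,5,2,5,2,5],
  [3,0,3,0],
  [3,1,3,1],
  [3,2,3,2,3,2],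
  [3,3],
  [3,4,3,4,3,4],
  [3,5,3,5],
  [4,0,4,0],
  [4,1,4,1],
  [4,2,4,2],
  [4,3,4,3,4,3],
  [4,4],
  [4,5,4,5],
  [5,0,5,0],
  [5,1,5,1],
  [5,2,5,2,5,2],
  [5,3,5,3],
  [5,4,5,4],
  [5,5]]
def subs : List (List ℕ) := [[0], [1], [2], [3], [5]]

end Cfsg.Agent.CosetEnum.Fi22.E6
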